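import Mathlib.RingTheory.Smooth.Fiber
import Mathlib.RingTheory.Unramified.LocalRing
import Mathlib.RingTheory.Etale.Field

/-!
# Flat and unramified at a prime implies etale at it
-/

universe u

open IsLocalRing TensorProduct

namespace Groth.Agent.FieldPow

/-- A finitely presented algebra whose localisation at `q` is flat and formally unramified over the
localisation of the base is etale at `q`. -/
theorem isEtaleAt_of_flat_unramified {R S R' S' : Type u} [CommRing R] [CommRing S] [Algebra R S]
    [Algebra.FinitePresentation R S] (p : Ideal R) [p.IsPrime] (q : Ideal S) [q.IsPrime]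
    [q.LiesOver p] [CommRing R'] [Algebra R R'] [IsLocalization.AtPrime R' p] [CommRing S']
    [Algebra S S'] [IsLocalization.AtPrime S' q] [Algebra R S'] [IsScalarTower R S S']
    [Algebra R' S'] [IsScalarTower R R' S'] [IsLocalRing R'] [IsLocalRing S']
    [IsLocalHom (algebraMap R' S')] [Algebra.EssFiniteType R' S'] [Module.Flat R' S']
    [Algebra.FormallyUnramified R' S'] : Algebra.IsEtaleAt R q := by
  let Sp := Localization (Algebra.algebraMapSubmonoid S p.primeCompl)
  let f : Sp →ₐ[S] S' := IsLocalization.liftAlgHom (M := Algebra.algebraMapSubmonoid S p.primeCompl)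
      (f := Algebra.ofId _ _) (by
    rintro ⟨_, x, hx, rfl⟩
    refine IsLocalization.map_units S' (M := q.primeCompl) ⟨algebraMap R S x, fun h => hx ?_⟩
    rw [q.over_def p]
    exact h)
  let : Algebra R' Sp := (IsLocalization.lift (M := p.primeCompl) (g := algebraMap R Sp) (by
    rintro ⟨x, hx⟩
    rw [IsScalarTower.algebraMap_apply R S Sp]
    exact IsLocalization.map_units Sp (M := Algebra.algebraMapSubmonoid S p.primeCompl)
      ⟨_, x, hx, rfl⟩)).toAlgebra
  have : IsScalarTower R R' Sp := .of_algebraMap_eq fun x => (IsLocalization.lift_eq _ x).symm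
  let : Algebra Sp S' := f.toRingHom.toAlgebra
  have : IsScalarTower S Sp S' := .of_algebraMap_eq fun x => (f.commutes x).symm
  have : IsScalarTower R Sp S' := .of_algebraMap_eq fun x => by
    rw [IsScalarTower.algebraMap_apply R S Sp, ← IsScalarTower.algebraMap_apply S Sp S',
      ← IsScalarTower.algebraMap_apply R S S']
  have : IsScalarTower R' Sp S' := .of_algebraMap_eq' <| by
    apply IsLocalization.ringHom_ext p.primeCompl
    simp only [RingHom.comp_assoc, ← IsScalarTower.algebraMap_eq]
  have : IsLocalization (Algebra.algebraMapSubmonoid Sp q.primeCompl) S' :=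
    .isLocalization_of_submonoid_le _ _ (Algebra.algebraMapSubmonoid S p.primeCompl) _ (by
      rintro _ ⟨x, hx, rfl⟩ h
      exact hx (by rw [q.over_def p]; exact h))
  have : Algebra.FinitePresentation R' Sp := by
    have : Algebra.IsPushout R R' S Sp :=
      .symm <| Algebra.isPushout_of_isLocalization p.primeCompl _ _ _
    exact .equiv (Algebra.IsPushout.equiv R R' S Sp)
  -- the closed fibre is the residue field
  have hfu : Algebra.FormallySmooth (ResidueField R') (ResidueField R' ⊗[R'] S') := by
    let ψ : ResidueField R' ⊗[R'] S' →ₐ[ResidueField R'] ResidueField S' :=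
      Algebra.TensorProduct.lift (Algebra.ofId _ _) (IsScalarTower.toAlgHom R' S' _)
        fun _ _ => .all _ _
    have hψ : ∀ s : S', ψ (1 ⊗ₜ s) = residue S' s := fun s => by simp [ψ]
    have hz : ∀ s ∈ maximalIdeal S', (1 : ResidueField R') ⊗ₜ[R'] s = 0 := by
      intro s hs
      rw [← Algebra.FormallyUnramified.map_maximalIdeal (R := R') (S := S')] at hs
      induction hs using Submodule.span_induction with
      | mem x hx =>
        obtain ⟨x, hx, rfl⟩ := hx
        rw [Algebra.algebraMap_eq_smul_one, ← smul_tmul, ← Algebra.algebraMap_eq_smul_one,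
          ResidueField.algebraMap_eq, (residue_eq_zero_iff x).2 hx, zero_tmul]
      | zero => rw [tmul_zero]
      | add x y _ _ hx hy => rw [tmul_add, hx, hy, add_zero]
      | smul a x _ hx =>
        have := congrArg (fun z => (1 ⊗ₜ[R'] a : ResidueField R' ⊗[R'] S') * z) hx
        simpa using this
    have hbij : Function.Bijective ψ := by
      refine ⟨(injective_iff_map_eq_zero ψ).2 fun z hz0 => ?_, fun z => ?_⟩
      · obtain ⟨s, rfl⟩ := TensorProduct.mk_surjective R' S' (ResidueField R') residue_surjective z
        exact hz s ((residue_eq_zero_iff s).1 ((hψ s).symm.trans hz0))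
      · obtain ⟨s, rfl⟩ := residue_surjective z
        exact ⟨1 ⊗ₜ s, hψ s⟩
    have : Algebra.FormallyEtale (ResidueField R') (ResidueField S') :=
      Algebra.FormallyEtale.of_isSeparable _ _
    exact .of_equiv (AlgEquiv.ofBijective ψ hbij).symm
  have h1 := Algebra.FormallySmooth.of_formallySmooth_residueField_tensor
    (R := R') (S := S') (P := Sp) (Algebra.algebraMapSubmonoid Sp q.primeCompl)
  have : Algebra.FormallyEtale R R' := .of_isLocalization p.primeCompl
  have h3 : Algebra.FormallyEtale R' S' :=
    Algebra.FormallyEtale.iff_formallyUnramified_and_formallySmooth.2 ⟨inferInstance, h1⟩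
  have : Algebra.FormallyEtale R S' := .comp R R' S'
  exact Algebra.FormallyEtale.of_equiv
    ((IsLocalization.algEquiv q.primeCompl S' (Localization.AtPrime q)).restrictScalars R)

end Groth.Agent.FieldPow
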