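import Groth.Agent.Assoc.Kernel
import Groth.Agent.FieldPow.Local
import Groth.Agent.EtaleSections.Basic
import Mathlib.AlgebraicGeometry.Morphisms.Etale
import Mathlib.AlgebraicGeometry.Morphisms.Flat
import Mathlib.AlgebraicGeometry.Stalk
import Mathlib.RingTheory.Smooth.Fiber
import Mathlib.CategoryTheory.Limits.Constructions.Over.Basic

/-!
# Etale at a point, and homomorphisms unramified near the unit
-/

universe u

open CategoryTheory CategoryTheory.Limits AlgebraicGeometry

namespace Groth.Agent.FieldPow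

/-- A morphism locally of finite presentation which is flat and formally unramified at a point on
stalks is etale near it. -/
theorem exists_etale_nhd {X Y : Scheme.{u}} (f : X ⟶ Y) [LocallyOfFinitePresentation f]
    (x : X) (hflat : (f.stalkMap x).hom.Flat) (hu : (f.stalkMap x).hom.FormallyUnramified) :
    ∃ U : X.Opens, x ∈ U ∧ Etale (U.ι ≫ f) := by
  obtain ⟨V, hV, hxV, -⟩ := exists_isAffineOpen_mem_and_subset (X := Y) (x := f x) (U := ⊤) trivial
  obtain ⟨W, hW, hxW, eW⟩ := exists_isAffineOpen_mem_and_subset (X := X) (x := x) (U := f ⁻¹ᵁ V) hxV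
  let φ : Γ(Y, V) ⟶ Γ(X, W) := f.appLE V W eW
  let : Algebra Γ(Y, V) Γ(X, W) := φ.hom.toAlgebra
  have : Algebra.FinitePresentation Γ(Y, V) Γ(X, W) := RingHom.finitePresentation_algebraMap.1
    (HasRingHomProperty.appLE @LocallyOfFinitePresentation f ‹_› ⟨V, hV⟩ ⟨W, hW⟩ eW)
  let := TopCat.Presheaf.algebra_section_stalk X.presheaf (⟨x, hxW⟩ : W)
  have hlx := hW.isLocalization_stalk ⟨x, hxW⟩
  let q := (hW.primeIdealOf ⟨x, hxW⟩).asIdeal
  let : Algebra Γ(Y, V) (X.presheaf.stalk x) :=
    ((algebraMap Γ(X, W) (X.presheaf.stalk x)).comp (algebraMap Γ(Y, V) Γ(X, W))).toAlgebra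
  have : IsScalarTower Γ(Y, V) Γ(X, W) (X.presheaf.stalk x) := .of_algebraMap_eq fun _ => rfl
  let := TopCat.Presheaf.algebra_section_stalk Y.presheaf (⟨f x, hxV⟩ : V)
  have hly := hV.isLocalization_stalk ⟨f x, hxV⟩
  let p := (hV.primeIdealOf ⟨f x, hxV⟩).asIdeal
  have : q.LiesOver p :=
    ⟨(congrArg PrimeSpectrum.asIdeal (IsAffineOpen.comap_primeIdealOf_appLE V hV W hW eW hxW)).symm⟩
  let : Algebra (Y.presheaf.stalk (f x)) (X.presheaf.stalk x) := (f.stalkMap x).hom.toAlgebra
  have : IsScalarTower Γ(Y, V) (Y.presheaf.stalk (f x)) (X.presheaf.stalk x) :=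
    .of_algebraMap_eq' <| by
      have h : φ ≫ X.presheaf.germ W x hxW = Y.presheaf.germ V (f x) hxV ≫ f.stalkMap x := by
        rw [Scheme.Hom.germ_stalkMap]
        simp [φ, Scheme.Hom.appLE]
      exact congrArg CommRingCat.Hom.hom h
  have : IsLocalHom (algebraMap (Y.presheaf.stalk (f x)) (X.presheaf.stalk x)) :=
    inferInstanceAs <| IsLocalHom (f.stalkMap x).hom
  have : Algebra.EssFiniteType (Y.presheaf.stalk (f x)) (X.presheaf.stalk x) :=
    RingHom.essFiniteType_algebraMap.1 (LocallyOfFiniteType.stalkMap f x)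
  have : Module.Flat (Y.presheaf.stalk (f x)) (X.presheaf.stalk x) :=
    RingHom.flat_algebraMap_iff.1 hflat
  have : Algebra.FormallyUnramified (Y.presheaf.stalk (f x)) (X.presheaf.stalk x) :=
    RingHom.formallyUnramified_algebraMap.1 hu
  have := isEtaleAt_of_flat_unramified (R := Γ(Y, V)) (S := Γ(X, W))
    (R' := Y.presheaf.stalk (f x)) (S' := X.presheaf.stalk x) p q
  obtain ⟨g, hg, het⟩ := Algebra.exists_etale_of_isEtaleAt (R := Γ(Y, V)) q
  refine ⟨X.basicOpen g, ?_, ?_⟩
  · rw [← hW.fromSpec_image_basicOpen g]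
    exact ⟨hW.primeIdealOf ⟨x, hxW⟩, hg, hW.fromSpec_primeIdealOf _⟩
  have hle : X.basicOpen g ≤ W := X.basicOpen_le g
  let D := Localization.Away g
  have h1 : Etale (Spec.map (CommRingCat.ofHom (algebraMap Γ(Y, V) D))) :=
    (HasRingHomProperty.Spec_iff (P := @Etale)).2 (RingHom.etale_algebraMap.2 het)
  let j : Spec (CommRingCat.of D) ⟶ X :=
    Spec.map (CommRingCat.ofHom (algebraMap Γ(X, W) D)) ≫ hW.fromSpec
  have hj : Set.range j = Set.range (X.basicOpen g).ι := by
    rw [Scheme.Opens.range_ι, Scheme.Hom.comp_base, TopCat.coe_comp, Set.range_comp]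
    change hW.fromSpec '' Set.range (PrimeSpectrum.comap _) = _
    exact (congrArg (Set.image hW.fromSpec) (PrimeSpectrum.localization_away_comap_range D g)).trans
      (congrArg (fun U : X.Opens => (U : Set X)) (hW.fromSpec_image_basicOpen g))
  have : IsOpenImmersion j := inferInstance
  rw [← IsOpenImmersion.isoOfRangeEq_inv_fac j (X.basicOpen g).ι hj, Category.assoc]
  have h2 : j ≫ f = Spec.map (CommRingCat.ofHom (algebraMap Γ(Y, V) D)) ≫ hV.fromSpec := by
    rw [Category.assoc, ← hV.SpecMap_appLE_fromSpec f hW eW, ← Spec.map_comp_assoc]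
    rfl
  rw [h2]
  infer_instance

open MonoidalCategory CartesianMonoidalCategory MonObj

variable {S : Scheme.{u}} {G H : Over S} [GrpObj G] [GrpObj H] (f : G ⟶ H) [IsMonHom f]

/-- A homomorphism which is formally unramified near the unit section is formally unramified. -/
theorem formallyUnramified_of_nhd [LocallyOfFiniteType f.left] (U : G.left.Opens)
    (hU : ∀ p, η[G].left p ∈ U) [FormallyUnramified (U.ι ≫ f.left)] :
    FormallyUnramified f.left := by
  obtain ⟨N, i, c, sq⟩ : ∃ (N : Over S) (i : N ⟶ G) (c : N ⟶ 𝟙_ (Over S)), IsPullback i c f η[H] :=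
    ⟨_, _, _, IsPullback.of_hasPullback f η[H]⟩
  have hw : ∀ {T : Over S} (z : T ⟶ N), (z ≫ i) ≫ f = 1 := fun z => by
    rw [Category.assoc, sq.w, ← Category.assoc, Hom.one_def, toUnit_unique (z ≫ c) (toUnit _)]
  let m : G ⊗ N ⟶ G := fst G N * (snd G N ≫ i)
  have hmw : fst G N ≫ f = m ≫ f := by
    rw [MonObj.mul_comp, hw, _root_.mul_one]
  have hm : IsPullback (fst G N) m f f := by
    refine ⟨⟨hmw⟩, ⟨PullbackCone.IsLimit.mk _
      (fun s => lift s.fst (sq.lift (s.fst⁻¹ * s.snd) (toUnit _) ?_))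
      (fun s => lift_fst _ _) (fun s => ?_) (fun s t ht₁ ht₂ => ?_)⟩⟩
    · rw [MonObj.mul_comp, GrpObj.inv_comp, s.condition, inv_mul_cancel, Hom.one_def]
    · simp only [m, MonObj.comp_mul, lift_fst, lift_snd_assoc, sq.lift_fst, mul_inv_cancel_left]
    · apply CartesianMonoidalCategory.hom_ext
      · rw [lift_fst, ht₁]
      · rw [lift_snd]
        apply sq.hom_ext
        · rw [sq.lift_fst, eq_inv_mul_iff_mul_eq, ← ht₁, ← ht₂]
          simp only [m, MonObj.comp_mul, Category.assoc]
        · exact toUnit_unique _ _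
  -- the unit of the kernel
  let e : 𝟙_ (Over S) ⟶ N := sq.lift η[G] (𝟙 _) (by simp [IsMonHom.one_hom])
  have hei : e ≫ i = η[G] := sq.lift_fst _ _ _
  have hsq : IsPullback i.left c.left f.left η[H].left := sq.map (Over.forget S)
  let V : N.left.Opens := i.left ⁻¹ᵁ U
  have hV : FormallyUnramified (V.ι ≫ c.left) := by
    have h1 : IsPullback (i.left ∣_ U) V.ι U.ι i.left := (isPullback_morphismRestrict i.left U)
    exact MorphismProperty.of_isPullback (IsPullback.paste_vert h1 hsq) inferInstance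
  have : LocallyOfFiniteType c.left :=
    MorphismProperty.of_isPullback hsq ‹LocallyOfFiniteType f.left›
  have hec : e.left ≫ c.left = 𝟙 _ :=
    (congrArg (fun k : 𝟙_ (Over S) ⟶ 𝟙_ (Over S) => k.left) (sq.lift_snd η[G] (𝟙 _) _) : _)
  have hrange : Set.range e.left ⊆ Set.range V.ι := by
    rintro _ ⟨p, rfl⟩
    rw [Scheme.Opens.range_ι]
    change i.left (e.left p) ∈ U
    rw [← Scheme.Hom.comp_apply, ← Over.comp_left, hei]
    exact hU p
  let e' : (𝟙_ (Over S)).left ⟶ (V : Scheme) := IsOpenImmersion.lift V.ι e.left hrange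
  have he' : e' ≫ V.ι = e.left := IsOpenImmersion.lift_fac _ _ _
  have he'c : e' ≫ V.ι ≫ c.left = 𝟙 _ := by rw [← Category.assoc, he', hec]
  have : Etale e' := by
    have : Etale (e' ≫ V.ι ≫ c.left) := by rw [he'c]; infer_instance
    exact Etale.of_comp e' (V.ι ≫ c.left)
  have : UniversallyInjective e' := by
    have : Mono e' := mono_of_mono_fac he'c
    infer_instance
  have : IsOpenImmersion e' := EtaleSections.isOpenImmersion_of_etale_universallyInjective e'
  have : IsOpenImmersion e.left := by rw [← he']; infer_instance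
  -- the diagonal
  have hΔ : IsOpenImmersion (G ◁ e).left :=
    MorphismProperty.of_isPullback (Assoc.isPullback_whiskerLeft (Z := G) e) ‹IsOpenImmersion e.left›
  have hpb : IsPullback (fst G N).left m.left f.left f.left := hm.map (Over.forget S)
  have : IsIso (ρ_ G).inv.left := ((Over.forget S).mapIso (ρ_ G).symm).isIso_hom
  have key : pullback.diagonal f.left = ((ρ_ G).inv ≫ G ◁ e).left ≫ hpb.isoPullback.hom := by
    have h1 : ((ρ_ G).inv ≫ G ◁ e) ≫ fst G N = 𝟙 G := by simp
    have h2 : ((ρ_ G).inv ≫ G ◁ e) ≫ m = 𝟙 G := by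
      simp only [m, MonObj.comp_mul, h1]
      have : ((ρ_ G).inv ≫ G ◁ e) ≫ snd G N ≫ i = 1 := by
        simp [hei, Hom.one_def]
      rw [this, _root_.mul_one]
    apply pullback.hom_ext
    · rw [pullback.diagonal_fst, Category.assoc, hpb.isoPullback_hom_fst, ← Over.comp_left, h1]
      rfl
    · rw [pullback.diagonal_snd, Category.assoc, hpb.isoPullback_hom_snd, ← Over.comp_left, h2]
      rfl
  have : IsOpenImmersion (pullback.diagonal f.left) := by
    rw [key, Over.comp_left]
    infer_instance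
  infer_instance

end Groth.Agent.FieldPow
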