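import Groth.Agent.FieldPow.Tangent
import Groth.Agent.FieldPow.Etale
import Groth.Agent.GrpField.FlatPoint
import Groth.Agent.LimDesc.FPCancel

/-!
# The power map of a group scheme over a field
-/

universe u

open CategoryTheory CategoryTheory.Limits MonoidalCategory CartesianMonoidalCategory MonObj GrpObj
open AlgebraicGeometry

namespace Groth.Agent.FieldPow

variable {K : Type u} [Field K] (G : Over (Spec (CommRingCat.of K))) [GrpObj G]

theorem isMonHom_pow [IsCommMonObj G] (n : ℤ) : IsMonHom (𝟙 G ^ n : G ⟶ G) where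
  one_hom := η_comp_pow G n
  mul_hom := by
    have h : μ[G] = fst G G * snd G G := by simp [Hom.mul_def]
    rw [GrpObj.comp_zpow, Category.comp_id, h, mul_zpow, Hom.mul_def, Hom.mul_def]
    rw [show fst G G ^ n = fst G G ≫ (𝟙 G ^ n) by rw [GrpObj.comp_zpow, Category.comp_id],
      show snd G G ^ n = snd G G ≫ (𝟙 G ^ n) by rw [GrpObj.comp_zpow, Category.comp_id]]
    simp

theorem locallyOfFinitePresentation_pow [LocallyOfFiniteType G.hom] (n : ℤ) :
    LocallyOfFinitePresentation (𝟙 G ^ n).left := by
  have : IsLocallyNoetherian G.left := LocallyOfFiniteType.isLocallyNoetherian G.hom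
  have : LocallyOfFinitePresentation ((𝟙 G ^ n).left ≫ G.hom) := by
    rw [Over.w (𝟙 G ^ n)]; infer_instance
  exact Groth.Agent.LimDesc.lfp_of_comp (𝟙 G ^ n).left G.hom

/-- The power map is etale near the unit. -/
theorem exists_etale_nhd_unit [LocallyOfFiniteType G.hom] {n : ℤ} (hn : (n : K) ≠ 0) :
    ∃ U : G.left.Opens, (∀ p : ↥(𝟙_ (Over (Spec (CommRingCat.of K)))).left, η[G].left p ∈ U) ∧
      Etale (U.ι ≫ (𝟙 G ^ n).left) := by
  have := locallyOfFinitePresentation_pow G n
  obtain ⟨-, hflat, hu⟩ := flat_and_formallyUnramified_stalkMap_pow G hn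
  obtain ⟨U, hxU, hU⟩ := exists_etale_nhd (𝟙 G ^ n).left (ept G) hflat hu
  refine ⟨U, fun p => ?_, hU⟩
  have : Subsingleton (Spec (CommRingCat.of K)) := inferInstanceAs (Subsingleton (PrimeSpectrum K))
  obtain rfl : p = (IsLocalRing.closedPoint K : Spec (CommRingCat.of K)) := @Subsingleton.elim _ this _ _
  exact hxU

/-- For a commutative group scheme the power map is etale when the exponent is invertible. -/
theorem etale_pow [IsCommMonObj G] [LocallyOfFiniteType G.hom] {n : ℤ} (hn : (n : K) ≠ 0) :
    Etale (𝟙 G ^ n).left := by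
  have := locallyOfFinitePresentation_pow G n
  have := isMonHom_pow G n
  have : Subsingleton (Spec (CommRingCat.of K)) := inferInstanceAs (Subsingleton (PrimeSpectrum K))
  obtain ⟨U, hU, het⟩ := exists_etale_nhd_unit G hn
  have : FormallyUnramified (𝟙 G ^ n).left := formallyUnramified_of_nhd (𝟙 G ^ n) U hU
  have : Flat (𝟙 G ^ n).left :=
    GrpField.flat_of_flat_stalkMap (𝟙 G ^ n) (flat_and_formallyUnramified_stalkMap_pow G hn).2.1
  exact Etale.of_formallyUnramified_of_flat _

end Groth.Agent.FieldPow
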