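import Groth.Agent.FieldPow.Endo
import Groth.Agent.GrpBasic.Cartier
import Mathlib.AlgebraicGeometry.Morphisms.FormallyUnramified
import Mathlib.CategoryTheory.Monoidal.Cartesian.Grp

/-!
# The tangent map of the power map of a group scheme over a field at the unit
-/

universe u

open CategoryTheory CategoryTheory.Limits MonoidalCategory CartesianMonoidalCategory MonObj GrpObj
open AlgebraicGeometry

namespace Groth.Agent.FieldPow

variable (K : Type u) [Field K] (M N : Type u) [AddCommGroup M] [Module K M] [Module Kᵐᵒᵖ M]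
  [IsCentralScalar K M] [AddCommGroup N] [Module K N] [Module Kᵐᵒᵖ N] [IsCentralScalar K N]

/-- The spectrum of the square zero extension `K ⊕ M`. -/
noncomputable abbrev tob : Over (Spec (CommRingCat.of K)) :=
  Over.mk (Spec.map (CommRingCat.ofHom (TrivSqZeroExt.inlHom K M)))

/-- The map of spectra induced by a linear map. -/
noncomputable def tmap {M N : Type u} [AddCommGroup M] [Module K M] [Module Kᵐᵒᵖ M]
    [IsCentralScalar K M] [AddCommGroup N] [Module K N] [Module Kᵐᵒᵖ N] [IsCentralScalar K N]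
    (f : M →ₗ[K] N) : tob K N ⟶ tob K M :=
  Over.homMk (Spec.map (CommRingCat.ofHom (TrivSqZeroExt.map f).toRingHom)) (by
    change Spec.map _ ≫ Spec.map _ = Spec.map _
    rw [← Spec.map_comp]
    congr 1
    ext c : 2
    exact TrivSqZeroExt.map_inl f c)

/-- The closed point of `Spec (K ⊕ M)`. -/
noncomputable def tzero : 𝟙_ (Over (Spec (CommRingCat.of K))) ⟶ tob K M :=
  Over.homMk (Spec.map (CommRingCat.ofHom (TrivSqZeroExt.fstHom ℤ K M).toRingHom)) (by
    change Spec.map _ ≫ Spec.map _ = 𝟙 _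
    rw [← Spec.map_comp, ← Spec.map_id]
    rfl)

variable {K M N}

lemma tmap_comp {P : Type u} [AddCommGroup P] [Module K P] [Module Kᵐᵒᵖ P] [IsCentralScalar K P]
    (f : M →ₗ[K] N) (g : N →ₗ[K] P) : tmap K (g.comp f) = tmap K g ≫ tmap K f := by
  ext1
  simp only [tmap, Over.homMk_left, Over.comp_left, ← Spec.map_comp, TrivSqZeroExt.map_comp_map]
  rfl

lemma tmap_id : tmap K (LinearMap.id : M →ₗ[K] M) = 𝟙 _ := by
  ext1
  simp only [tmap, Over.homMk_left, TrivSqZeroExt.map_id]
  exact Spec.map_id _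

variable (G : Over (Spec (CommRingCat.of K))) [GrpObj G]

/-- The unit point. -/
noncomputable abbrev ept : G.left := η[G].left (IsLocalRing.closedPoint K)

/-- The local ring at the unit. -/
noncomputable abbrev O : CommRingCat.{u} := G.left.presheaf.stalk (ept G)

noncomputable def εc : O G ⟶ CommRingCat.of K :=
  (Cartier.exists_Spec_map_fromSpecStalk (A := CommRingCat.of K) η[G].left rfl).choose

lemma map_εc : Spec.map (εc G) ≫ G.left.fromSpecStalk (ept G) = η[G].left :=
  (Cartier.exists_Spec_map_fromSpecStalk (A := CommRingCat.of K) η[G].left rfl).choose_spec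

noncomputable def ic : CommRingCat.of K ⟶ O G :=
  (Spec.map_surjective (G.left.fromSpecStalk (ept G) ≫ G.hom)).choose

lemma map_ic : Spec.map (ic G) = G.left.fromSpecStalk (ept G) ≫ G.hom :=
  (Spec.map_surjective (G.left.fromSpecStalk (ept G) ≫ G.hom)).choose_spec

lemma εc_ic (c : K) : (εc G).hom ((ic G).hom c) = c := by
  have h : ic G ≫ εc G = 𝟙 _ := Spec.map_injective (by
    rw [Spec.map_comp, map_ic, reassoc_of% map_εc G, Spec.map_id]
    exact Over.w η[G])
  exact congrArg (fun φ => φ.hom c) h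

lemma ker_εc : RingHom.ker (εc G).hom = IsLocalRing.maximalIdeal (O G) :=
  IsLocalRing.eq_maximalIdeal (RingHom.ker_isMaximal_of_surjective _ fun c => ⟨_, εc_ic G c⟩)

variable {G}

/-- `δ` is the tangent vector represented by the point `P`. -/
def Rep (P : tob K M ⟶ G) (δ : O G → M) : Prop :=
  ∃ φ : O G ⟶ CommRingCat.of (TrivSqZeroExt K M), Spec.map φ ≫ G.left.fromSpecStalk (ept G) = P.left ∧
    (∀ a, (φ.hom a).fst = (εc G).hom a) ∧ ∀ a, (φ.hom a).snd = δ a

lemma Rep.tzero {P : tob K M ⟶ G} {δ : O G → M} (h : Rep P δ) : tzero K M ≫ P = 1 := by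
  obtain ⟨φ, hφ, hfst, -⟩ := h
  ext1
  rw [Hom.one_def, Over.comp_left, Over.comp_left, ← hφ, Over.toUnit_left]
  change Spec.map _ ≫ Spec.map φ ≫ _ = 𝟙 _ ≫ η[G].left
  rw [Category.id_comp, ← Spec.map_comp_assoc, ← map_εc G]
  congr 2
  ext a : 2
  exact hfst a

lemma exists_rep {P : tob K M ⟶ G} (h : tzero K M ≫ P = 1) : ∃ δ, Rep P δ := by
  let fK : CommRingCat.of (TrivSqZeroExt K M) ⟶ CommRingCat.of K :=
    CommRingCat.ofHom (TrivSqZeroExt.fstHom ℤ K M).toRingHom
  have h' : Spec.map fK ≫ P.left = η[G].left := by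
    have := congrArg (fun k : 𝟙_ (Over (Spec (CommRingCat.of K))) ⟶ G => k.left) h
    simp only [Hom.one_def, Over.comp_left, Over.toUnit_left] at this
    exact this.trans (Category.id_comp _)
  have : IsLocalRing (TrivSqZeroExt K M) := .of_isUnit_or_isUnit_one_sub_self fun a => by
    rw [TrivSqZeroExt.isUnit_iff_isUnit_fst, TrivSqZeroExt.isUnit_iff_isUnit_fst,
      TrivSqZeroExt.fst_sub, TrivSqZeroExt.fst_one]
    exact IsLocalRing.isUnit_or_isUnit_one_sub_self _
  have : IsLocalHom fK.hom := ⟨fun a ha => TrivSqZeroExt.isUnit_iff_isUnit_fst.2 ha⟩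
  have hpt : P.left (IsLocalRing.closedPoint (TrivSqZeroExt K M)) = ept G := by
    have hp := Spec_closedPoint (f := fK)
    rw [← hp, ← Scheme.Hom.comp_apply, h']
  obtain ⟨φ, hφ⟩ := Cartier.exists_Spec_map_fromSpecStalk P.left hpt
  refine ⟨fun a => (φ.hom a).snd, φ, hφ, fun a => ?_, fun a => rfl⟩
  have : φ ≫ fK = εc G := Spec.map_injective ((cancel_mono (G.left.fromSpecStalk (ept G))).1 (by
    rw [Spec.map_comp, Category.assoc, hφ, h', map_εc]))
  exact congrArg (fun k => k.hom a) this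

lemma Rep.ext {P Q : tob K M ⟶ G} {δ : O G → M} (hP : Rep P δ) (hQ : Rep Q δ) : P = Q := by
  obtain ⟨φ, hφ, hf, hs⟩ := hP
  obtain ⟨φ', hφ', hf', hs'⟩ := hQ
  ext1
  rw [← hφ, ← hφ']
  congr 2
  ext a : 2
  exact TrivSqZeroExt.ext ((hf a).trans (hf' a).symm) ((hs a).trans (hs' a).symm)

lemma Rep.unique {P : tob K M ⟶ G} {δ δ' : O G → M} (h : Rep P δ) (h' : Rep P δ') : δ = δ' := by
  obtain ⟨φ, hφ, -, hs⟩ := h
  obtain ⟨φ', hφ', -, hs'⟩ := h'
  obtain rfl : φ = φ' := Spec.map_injective ((cancel_mono (G.left.fromSpecStalk (ept G))).1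
    (hφ.trans hφ'.symm))
  funext a
  rw [← hs, hs']

lemma Rep.map {P : tob K M ⟶ G} {δ : O G → M} (h : Rep P δ) (f : M →ₗ[K] N) :
    Rep (tmap K f ≫ P) (fun a => f (δ a)) := by
  obtain ⟨φ, hφ, hf, hs⟩ := h
  refine ⟨φ ≫ CommRingCat.ofHom (TrivSqZeroExt.map f).toRingHom, ?_, fun a => ?_, fun a => ?_⟩
  · rw [Spec.map_comp, Category.assoc, hφ]; rfl
  · exact (TrivSqZeroExt.fst_map f _).trans (hf a)
  · exact (TrivSqZeroExt.snd_map f _).trans (congrArg f (hs a))

lemma rep_one : Rep (1 : tob K M ⟶ G) (fun _ => 0) := by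
  refine ⟨εc G ≫ CommRingCat.ofHom (TrivSqZeroExt.inlHom K M), ?_, fun a => rfl, fun a => rfl⟩
  rw [Spec.map_comp, Category.assoc, map_εc, Hom.one_def, Over.comp_left, Over.toUnit_left]
  rfl

lemma Rep.mul {P Q : tob K M ⟶ G} {δ δ' : O G → M} (hP : Rep P δ) (hQ : Rep Q δ') :
    Rep (P * Q) (fun a => δ a + δ' a) := by
  let l : M →ₗ[K] M × M := LinearMap.inl K M M
  let r : M →ₗ[K] M × M := LinearMap.inr K M M
  have hA := hP.map l
  have hB := hQ.map r
  obtain ⟨D, hD⟩ := exists_rep (P := (tmap K l ≫ P) * (tmap K r ≫ Q)) (by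
    rw [MonObj.comp_mul, hA.tzero, hB.tzero, _root_.one_mul])
  have h0 : ∀ {R : tob K M ⟶ G} {γ : O G → M}, Rep R γ → tmap K (0 : M →ₗ[K] M) ≫ R = 1 := by
    intro R γ hR
    exact (hR.map 0).ext rep_one
  have e1 : (LinearMap.fst K M M).comp l = LinearMap.id := by ext x <;> simp [l]
  have e2 : (LinearMap.fst K M M).comp r = 0 := by ext x <;> simp [r]
  have e3 : (LinearMap.snd K M M).comp l = 0 := by ext x <;> simp [l]
  have e4 : (LinearMap.snd K M M).comp r = LinearMap.id := by ext x <;> simp [r]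
  have e5 : (LinearMap.fst K M M + LinearMap.snd K M M).comp l = LinearMap.id := by ext x <;> simp [l]
  have e6 : (LinearMap.fst K M M + LinearMap.snd K M M).comp r = LinearMap.id := by ext x <;> simp [r]
  have k1 := hD.map (LinearMap.fst K M M)
  rw [MonObj.comp_mul, ← Category.assoc, ← Category.assoc, ← tmap_comp, ← tmap_comp, e1, e2, h0 hQ,
    tmap_id, Category.id_comp, _root_.mul_one] at k1
  have k2 := hD.map (LinearMap.snd K M M)
  rw [MonObj.comp_mul, ← Category.assoc, ← Category.assoc, ← tmap_comp, ← tmap_comp, e3, e4, h0 hP,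
    tmap_id, Category.id_comp, _root_.one_mul] at k2
  have k3 := hD.map (LinearMap.fst K M M + LinearMap.snd K M M)
  rw [MonObj.comp_mul, ← Category.assoc, ← Category.assoc, ← tmap_comp, ← tmap_comp, e5, e6,
    tmap_id, Category.id_comp, Category.id_comp] at k3
  have d1 := k1.unique hP
  have d2 := k2.unique hQ
  convert k3 using 1
  funext a
  show δ a + δ' a = (D a).1 + (D a).2
  rw [← congrFun d1 a, ← congrFun d2 a]
  rfl

lemma Rep.zpow {P : tob K M ⟶ G} {δ : O G → M} (hP : Rep P δ) (n : ℤ) :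
    Rep (P ^ n) (fun a => n • δ a) := by
  have hinv : Rep P⁻¹ (fun a => -δ a) := by
    have h := hP.map (-LinearMap.id : M →ₗ[K] M)
    have h1 := hP.mul h
    have e : P * (tmap K (-LinearMap.id : M →ₗ[K] M) ≫ P) = 1 := by
      refine h1.ext ?_
      convert rep_one (G := G) (M := M) using 1
      funext a
      simp
    rw [inv_eq_of_mul_eq_one_right e]
    exact h
  induction n using Int.induction_on with
  | zero => simpa only [zpow_zero, zero_smul] using rep_one
  | succ i ih =>
    rw [zpow_add_one]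
    convert ih.mul hP using 1
    funext a
    rw [add_smul, one_smul]
  | pred i ih =>
    rw [zpow_sub_one]
    convert ih.mul hinv using 1
    funext a
    rw [sub_smul, one_smul, sub_eq_add_neg]

/-- Every derivation at the unit is a tangent vector. -/
lemma exists_rep_derivation (δ : O G →+ M)
    (hδ : ∀ a b, δ (a * b) = (εc G).hom a • δ b + (εc G).hom b • δ a)
    (hi : ∀ c, δ ((ic G).hom c) = 0) : ∃ P : tob K M ⟶ G, Rep P δ := by
  let φ : O G ⟶ CommRingCat.of (TrivSqZeroExt K M) := CommRingCat.ofHom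
    { toFun := fun a => ((εc G).hom a, δ a)
      map_one' := TrivSqZeroExt.ext (map_one (εc G).hom) (by
        change δ 1 = 0
        rw [← map_one (ic G).hom, hi])
      map_mul' := fun a b => TrivSqZeroExt.ext (map_mul (εc G).hom a b) (by
        change δ (a * b) = (εc G).hom a • δ b + MulOpposite.op ((εc G).hom b) • δ a
        exact (hδ a b).trans (congrArg _ (op_smul_eq_smul _ _).symm))
      map_zero' := TrivSqZeroExt.ext (map_zero (εc G).hom) (map_zero δ)
      map_add' := fun a b => TrivSqZeroExt.ext (map_add (εc G).hom a b) (map_add δ a b) }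
  refine ⟨Over.homMk (Spec.map φ ≫ G.left.fromSpecStalk (ept G)) ?_, φ, rfl, fun _ => rfl, fun _ => rfl⟩
  rw [Category.assoc, ← map_ic, ← Spec.map_comp]
  change Spec.map _ = Spec.map _
  congr 1
  ext c : 2
  exact TrivSqZeroExt.ext (εc_ic G c) (hi c)

variable (G)

lemma η_eq_one : η[G] = (1 : 𝟙_ (Over (Spec (CommRingCat.of K))) ⟶ G) := by
  simp [Hom.one_def]

lemma η_comp_pow (n : ℤ) : η[G] ≫ (𝟙 G ^ n) = η[G] := by
  rw [GrpObj.comp_zpow, Category.comp_id, η_eq_one, one_zpow]

/-- The map of local rings at the unit induced by the `n`-th power is multiplication by `n` on the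
cotangent space. -/
theorem exists_tangent_pow [LocallyOfFiniteType G.hom] (n : ℤ) :
    ∃ ψ : O G ⟶ O G, Spec.map ψ ≫ G.left.fromSpecStalk (ept G) =
        G.left.fromSpecStalk (ept G) ≫ (𝟙 G ^ n).left ∧ ic G ≫ ψ = ic G ∧
      (𝟙 G ^ n).left (ept G) = ept G ∧
      ∀ a ∈ IsLocalRing.maximalIdeal (O G), ψ.hom a - (n : O G) * a ∈ IsLocalRing.maximalIdeal (O G) ^ 2 := by
  set φ := 𝟙 G ^ n with hφdef
  set st := G.left.fromSpecStalk (ept G)
  have hηφ : η[G].left ≫ φ.left = η[G].left := by rw [← Over.comp_left, η_comp_pow]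
  have hpt : φ.left (ept G) = ept G := by
    change (η[G].left ≫ φ.left) _ = _
    rw [hηφ]
  have : IsLocallyNoetherian G.left := LocallyOfFiniteType.isLocallyNoetherian G.hom
  obtain ⟨ψ, hψ⟩ : ∃ ψ : O G ⟶ O G, Spec.map ψ ≫ st = st ≫ φ.left :=
    Cartier.exists_Spec_map_fromSpecStalk (A := O G) (st ≫ φ.left) (by
      rw [Scheme.Hom.comp_apply, Scheme.fromSpecStalk_closedPoint, hpt])
  have hψi : ic G ≫ ψ = ic G := Spec.map_injective (by
    rw [Spec.map_comp, map_ic, reassoc_of% hψ, Over.w φ])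
  have hψε : ψ ≫ εc G = εc G := Spec.map_injective ((cancel_mono st).1 (by
    rw [Spec.map_comp, Category.assoc, hψ, reassoc_of% map_εc G, hηφ, map_εc]))
  -- the tangent map
  have htan : ∀ (δ : O G →+ K), (∀ a b, δ (a * b) = (εc G).hom a • δ b + (εc G).hom b • δ a) →
      (∀ c, δ ((ic G).hom c) = 0) → ∀ a, δ (ψ.hom a) = n • δ a := by
    intro δ hδ hi a
    obtain ⟨P, hP⟩ := exists_rep_derivation δ hδ hi
    have h1 := hP.zpow n
    obtain ⟨χ, hχ, hf, hs⟩ := hP
    have h2 : Rep (P ≫ φ) (fun a => δ (ψ.hom a)) := by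
      refine ⟨ψ ≫ χ, ?_, fun a => (hf _).trans (congrArg (fun k => k.hom a) hψε), fun a => hs _⟩
      rw [Spec.map_comp, Category.assoc, hψ, ← Category.assoc, hχ, Over.comp_left]
    rw [hφdef, GrpObj.comp_zpow, Category.comp_id] at h2
    exact congrFun (h2.unique h1) a
  set m := IsLocalRing.maximalIdeal (O G)
  have hm : ∀ a, a - (ic G).hom ((εc G).hom a) ∈ m := fun a => by
    rw [show m = _ from (ker_εc G).symm, RingHom.mem_ker, map_sub, εc_ic, sub_self]
  have hψn : ∀ a ∈ m, ψ.hom a - (n : O G) * a ∈ m ^ 2 := by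
    intro a ha
    let : Algebra K (O G) := (ic G).hom.toAlgebra
    by_contra hne
    set b := ψ.hom a - (n : O G) * a
    let V : Submodule K (O G) := (m ^ 2).restrictScalars K ⊔ Submodule.span K {(1 : O G)}
    have hbV : b ∉ V := by
      intro hb
      obtain ⟨x, hx, y, hy, e⟩ := Submodule.mem_sup.1 hb
      obtain ⟨c, rfl⟩ := Submodule.mem_span_singleton.1 hy
      rw [Submodule.restrictScalars_mem] at hx
      have hb0 : (εc G).hom b = 0 := by
        have ha0 : (εc G).hom a = 0 := by rw [← RingHom.mem_ker, ker_εc]; exact ha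
        have : (εc G).hom (ψ.hom a) = 0 := (congrArg (fun k => k.hom a) hψε).trans ha0
        simp [b, this, ha0]
      have hx0 : (εc G).hom x = 0 := by
        rw [← RingHom.mem_ker, ker_εc]; exact Ideal.pow_le_self two_ne_zero hx
      have hc : c = 0 := by
        have h := congrArg (εc G).hom e
        rw [map_add, hb0, hx0, zero_add, Algebra.smul_def, _root_.mul_one] at h
        exact (εc_ic G c).symm.trans h
      rw [hc, zero_smul, add_zero] at e
      exact hne (e ▸ hx)
    obtain ⟨f, hfb, hfV⟩ := Submodule.exists_dual_map_eq_bot_of_notMem hbV inferInstance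
    have hf0 : ∀ x ∈ V, f x = 0 := fun x hx => by
      have := Submodule.mem_map_of_mem (f := f) hx
      rwa [hfV] at this
    have hfi : ∀ c, f ((ic G).hom c) = 0 := fun c => hf0 _ (Submodule.mem_sup_right
      (Submodule.mem_span_singleton.2 ⟨c, by rw [Algebra.smul_def, _root_.mul_one]; rfl⟩))
    have hδ : ∀ x y, f (x * y) = (εc G).hom x • f y + (εc G).hom y • f x := by
      intro x y
      have h0 : f ((x - (ic G).hom ((εc G).hom x)) * (y - (ic G).hom ((εc G).hom y))) = 0 :=
        hf0 _ (Submodule.mem_sup_left (by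
          rw [Submodule.restrictScalars_mem, pow_two]; exact Ideal.mul_mem_mul (hm x) (hm y)))
      have e : x * y = (εc G).hom x • y + (εc G).hom y • x
          - (ic G).hom ((εc G).hom x * (εc G).hom y)
          + (x - (ic G).hom ((εc G).hom x)) * (y - (ic G).hom ((εc G).hom y)) := by
        simp only [Algebra.smul_def, RingHom.algebraMap_toAlgebra, map_mul]; ring
      rw [e, map_add, map_sub, map_add, map_smul, map_smul, h0, hfi, sub_zero, add_zero]
    refine hfb ?_
    simp only [b, map_sub, ← zsmul_eq_mul, map_zsmul]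
    rw [sub_eq_zero]
    exact htan f.toAddMonoidHom hδ hfi a
  exact ⟨ψ, hψ, hψi, hpt, hψn⟩

/-- Transport of a property from a representative of a stalk map. -/
theorem stalkMap_of_rep {X : Scheme.{u}} {f : X ⟶ X} {x : X}
    {P : ∀ {R S : Type u} [CommRing R] [CommRing S], (R →+* S) → Prop}
    {y : X} (hy : f x = y) (χ : X.presheaf.stalk y ⟶ X.presheaf.stalk x)
    (hχ : Spec.map χ ≫ X.fromSpecStalk y = X.fromSpecStalk x ≫ f)
    (hP : P χ.hom) : P (f.stalkMap x).hom := by
  subst hy
  obtain rfl : χ = f.stalkMap x := Spec.map_injective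
    ((cancel_mono (X.fromSpecStalk (f x))).1
      (hχ.trans (Scheme.SpecMap_stalkMap_fromSpecStalk f).symm))
  exact hP

/-- The power map at the unit of a group scheme locally of finite type over a field. -/
theorem flat_and_formallyUnramified_stalkMap_pow [LocallyOfFiniteType G.hom] {n : ℤ}
    (hn : (n : K) ≠ 0) :
    (𝟙 G ^ n).left (ept G) = ept G ∧ ((𝟙 G ^ n).left.stalkMap (ept G)).hom.Flat ∧
      ((𝟙 G ^ n).left.stalkMap (ept G)).hom.FormallyUnramified := by
  obtain ⟨ψ, hψ, hψi, hpt, hψn⟩ := exists_tangent_pow G n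
  set φ := 𝟙 G ^ n with hφdef
  have : IsLocallyNoetherian G.left := LocallyOfFiniteType.isLocallyNoetherian G.hom
  set m := IsLocalRing.maximalIdeal (O G)
  have hm : ∀ a, a - (ic G).hom ((εc G).hom a) ∈ m := fun a => by
    rw [show m = _ from (ker_εc G).symm, RingHom.mem_ker, map_sub, εc_ic, sub_self]
  have hnu : IsUnit (n : O G) := by
    have := (IsUnit.mk0 _ hn).map (ic G).hom
    rwa [map_intCast] at this
  have hres : ∀ a, ∃ b, a - ψ.hom b ∈ m := fun a => ⟨(ic G).hom ((εc G).hom a), by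
    rw [show ψ.hom ((ic G).hom _) = _ from congrArg (fun k => k.hom ((εc G).hom a)) hψi]
    exact hm a⟩
  obtain ⟨hflat, hmap⟩ := flat_and_formallyUnramified_endo ψ.hom hnu hψn hres
  -- transport to the stalk map
  have : LocallyOfFiniteType φ.left := by
    have : LocallyOfFiniteType (φ.left ≫ G.hom) := by rw [Over.w φ]; infer_instance
    exact locallyOfFiniteType_of_comp _ G.hom
  refine ⟨hpt, stalkMap_of_rep (f := φ.left) (x := ept G) (P := @RingHom.Flat) hpt ψ hψ hflat, ?_⟩
  have hsurj := stalkMap_of_rep (f := φ.left) (x := ept G) (P := fun {R S} _ _ g => ∀ a : S, ¬IsUnit a ∨ ∃ b, ¬IsUnit (a - g b))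
    hpt ψ hψ fun a => Or.inr ⟨_, (IsLocalRing.mem_maximalIdeal _).1 (hres a).choose_spec⟩
  have hmax := stalkMap_of_rep (f := φ.left) (x := ept G) (P := fun {R S} _ _ g => ∀ a : S, ¬IsUnit a →
      a ∈ Ideal.span (g '' {x | ¬IsUnit x})) hpt ψ hψ fun a ha => by
    have h : a ∈ m.map ψ.hom := hmap.symm ▸ (IsLocalRing.mem_maximalIdeal a).2 ha
    exact h
  let R := G.left.presheaf.stalk (φ.left (ept G))
  algebraize [(φ.left.stalkMap (ept G)).hom]
  have : IsLocalHom (algebraMap R (O G)) := inferInstanceAs (IsLocalHom (φ.left.stalkMap (ept G)).hom)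
  have : Algebra.EssFiniteType R (O G) := by
    rw [← RingHom.essFiniteType_algebraMap]
    exact LocallyOfFiniteType.stalkMap φ.left (ept G)
  have hbij : Function.Surjective (algebraMap (IsLocalRing.ResidueField R) (IsLocalRing.ResidueField (O G))) := by
    intro z
    obtain ⟨a, rfl⟩ := IsLocalRing.residue_surjective z
    rcases hsurj a with ha | ⟨b, hb⟩
    · exact ⟨0, by rw [map_zero, eq_comm, IsLocalRing.residue_eq_zero_iff]; exact ha⟩
    · refine ⟨IsLocalRing.residue R b, ?_⟩
      have h := (IsLocalRing.residue_eq_zero_iff _).2 ((IsLocalRing.mem_maximalIdeal _).2 hb)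
      rw [map_sub, sub_eq_zero] at h
      exact h.symm
  have : Algebra.IsSeparable (IsLocalRing.ResidueField R) (IsLocalRing.ResidueField (O G)) :=
    ⟨fun z => by
      obtain ⟨y, rfl⟩ := hbij z
      exact isSeparable_algebraMap y⟩
  refine Algebra.FormallyUnramified.of_map_maximalIdeal (le_antisymm ?_ fun a ha => ?_)
  · exact Ideal.map_le_iff_le_comap.2 fun x hx => map_nonunit (algebraMap R (O G)) x hx
  · exact hmax a ((IsLocalRing.mem_maximalIdeal a).1 ha)

end Groth.Agent.FieldPow
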