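import Mathlib.RingTheory.Filtration
import Mathlib.RingTheory.Flat.Basic
import Mathlib.RingTheory.Unramified.LocalRing
import Mathlib.RingTheory.Nakayama
import Mathlib.RingTheory.RingHom.Flat

/-!
# Local homomorphisms bijective modulo every power of the maximal ideals are flat
-/

universe u

open IsLocalRing TensorProduct

namespace Groth.Agent.FieldPow

theorem flat_of_bijective_mod_pow {R S : Type u} [CommRing R] [CommRing S] [IsLocalRing R]
    [IsLocalRing S] [IsNoetherianRing R] [IsNoetherianRing S] [Algebra R S]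
    (hmap : ∀ (k : ℕ) (r : R), r ∈ maximalIdeal R ^ k → algebraMap R S r ∈ maximalIdeal S ^ k)
    (hsurj : ∀ (k : ℕ) (s : S), ∃ r, s - algebraMap R S r ∈ maximalIdeal S ^ k)
    (hinj : ∀ (k : ℕ) (r : R), algebraMap R S r ∈ maximalIdeal S ^ k → r ∈ maximalIdeal R ^ k) :
    Module.Flat R S := by
  classical
  rw [Module.Flat.iff_rTensor_injective]
  intro I hI
  obtain ⟨l, a, ha⟩ := Submodule.fg_iff_exists_fin_generating_family.1 hI
  have ha' : ∀ i, a i ∈ I := fun i => ha ▸ Submodule.subset_span ⟨i, rfl⟩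
  let L : (Fin l → S) →+ I ⊗[R] S :=
    AddMonoidHom.mk' (fun v => ∑ i, (⟨a i, ha' i⟩ : I) ⊗ₜ[R] v i) fun v w => by
      simp [tmul_add, Finset.sum_add_distrib]
  have hL : ∀ z, ∃ v, L v = z := by
    intro z
    induction z using TensorProduct.induction_on with
    | zero => exact ⟨0, map_zero L⟩
    | tmul m b =>
      obtain ⟨c, hc⟩ := (Submodule.mem_span_range_iff_exists_fun R).1 (ha.ge m.2)
      refine ⟨fun i => c i • b, ?_⟩
      have hm : m = ∑ i, c i • (⟨a i, ha' i⟩ : I) := Subtype.ext (by simp [← hc])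
      show ∑ i, (⟨a i, ha' i⟩ : I) ⊗ₜ[R] (c i • b) = m ⊗ₜ b
      rw [hm, sum_tmul]
      exact Finset.sum_congr rfl fun i _ => (smul_tmul _ _ _).symm
    | add x y hx hy =>
      obtain ⟨v, rfl⟩ := hx
      obtain ⟨w, rfl⟩ := hy
      exact ⟨v + w, map_add L v w⟩
  -- the relations
  let W : Submodule S (Fin l → S) :=
    Submodule.span S {v | ∃ r : Fin l → R, ∑ i, r i * a i = 0 ∧ v = fun i => algebraMap R S (r i)}
  have hW : ∀ v ∈ W, ∀ s : S, L (s • v) = 0 := by
    intro v hv
    induction hv using Submodule.span_induction with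
    | mem v hv =>
      obtain ⟨r, hr, rfl⟩ := hv
      intro s
      show ∑ i, (⟨a i, ha' i⟩ : I) ⊗ₜ[R] (s * algebraMap R S (r i)) = 0
      simp only [mul_comm s, ← Algebra.smul_def, ← smul_tmul, ← sum_tmul]
      have : ∑ i, r i • (⟨a i, ha' i⟩ : I) = 0 := Subtype.ext (by simpa using hr)
      rw [this, zero_tmul]
    | zero => intro s; rw [smul_zero, map_zero]
    | add v w _ _ hv hw => intro s; rw [smul_add, map_add, hv s, hw s, add_zero]
    | smul t v _ hv => intro s; rw [smul_smul]; exact hv _
  obtain ⟨c, hc⟩ := Ideal.exists_pow_inf_eq_pow_smul (M := R) (maximalIdeal R) I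
  have key : ∀ v : Fin l → S, ∑ i, algebraMap R S (a i) * v i = 0 → v ∈ W := by
    intro v hv
    have h1 : ∀ j : ℕ, v ∈ W ⊔ maximalIdeal S ^ j • (⊤ : Submodule S (Fin l → S)) := by
      intro j
      choose r hr using fun i => hsurj (j + c) (v i)
      have h2 : ∑ i, r i * a i ∈ maximalIdeal R ^ (j + c) := by
        refine hinj _ _ ?_
        have e : ∑ i, algebraMap R S (a i) * (v i - algebraMap R S (r i)) =
            - algebraMap R S (∑ i, r i * a i) := by
          simp only [mul_sub, Finset.sum_sub_distrib, hv, zero_sub, map_sum, map_mul]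
          exact congrArg Neg.neg (Finset.sum_congr rfl fun i _ => mul_comm _ _)
        rw [← neg_neg (algebraMap R S (∑ i, r i * a i)), ← e, neg_mem_iff]
        exact sum_mem fun i _ => Ideal.mul_mem_left _ _ (hr i)
      have h3 : ∑ i, r i * a i ∈ maximalIdeal R ^ (j + c) • (⊤ : Submodule R R) ⊓ I :=
        ⟨by simpa using h2, sum_mem fun i _ => Ideal.mul_mem_left _ _ (ha' i)⟩
      rw [hc (j + c) (Nat.le_add_left _ _), Nat.add_sub_cancel] at h3
      have h4 : ∑ i, r i * a i ∈ maximalIdeal R ^ j • Submodule.span R (Set.range a) := by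
        rw [ha]
        exact (Submodule.smul_mono le_rfl inf_le_right :
          maximalIdeal R ^ j • (maximalIdeal R ^ c • ⊤ ⊓ (I : Submodule R R)) ≤ maximalIdeal R ^ j • I) h3
      obtain ⟨d, hd, hsum⟩ := (Submodule.mem_ideal_smul_span_iff_exists_sum _ _ _).1 h4
      rw [Finsupp.sum_fintype _ _ fun i => by simp] at hsum
      simp only [smul_eq_mul] at hsum
      have h5 : (fun i => algebraMap R S (r i - d i)) ∈ W :=
        Submodule.subset_span ⟨fun i => r i - d i, by
          simp only [sub_mul, Finset.sum_sub_distrib, hsum, sub_self], rfl⟩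
      refine Submodule.mem_sup.2 ⟨_, h5, v - fun i => algebraMap R S (r i - d i), ?_,
        add_sub_cancel _ _⟩
      have h6 : ∀ i, v i - algebraMap R S (r i - d i) ∈ maximalIdeal S ^ j := fun i => by
        rw [map_sub, ← sub_add]
        exact add_mem (Ideal.pow_le_pow_right (Nat.le_add_right _ _) (hr i)) (hmap _ _ (hd i))
      rw [pi_eq_sum_univ (v - fun i => algebraMap R S (r i - d i))]
      exact sum_mem fun i _ => Submodule.smul_mem_smul (h6 i) trivial
    have h7 : W.mkQ v ∈ (⨅ j : ℕ, maximalIdeal S ^ j •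
        (⊤ : Submodule S ((Fin l → S) ⧸ W))) := by
      rw [Submodule.mem_iInf]
      intro j
      have h8 := Submodule.mem_map_of_mem (f := W.mkQ) (h1 j)
      rw [Submodule.map_sup, Submodule.mkQ_map_self, bot_sup_eq, Submodule.map_smul''] at h8
      exact Submodule.smul_mono le_rfl le_top h8
    rw [Ideal.iInf_pow_smul_eq_bot_of_le_jacobson _ (maximalIdeal_le_jacobson _), Submodule.mem_bot,
      Submodule.mkQ_apply, Submodule.Quotient.mk_eq_zero] at h7
    exact h7
  rw [← LinearMap.ker_eq_bot, LinearMap.ker_eq_bot']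
  intro z hz
  obtain ⟨v, rfl⟩ := hL z
  have h0 := congrArg (TensorProduct.lid R S) hz
  simp only [map_zero] at h0
  have h1 : ∑ i, algebraMap R S (a i) * v i = 0 := by
    rw [← h0]
    simp [L, Algebra.smul_def]
  simpa using hW v (key v h1) 1

section Endo

variable {O : Type u} [CommRing O] [IsLocalRing O] [IsNoetherianRing O] (ψ : O →+* O) {n : O}
  (hn : IsUnit n) (hψ : ∀ a ∈ maximalIdeal O, ψ a - n * a ∈ maximalIdeal O ^ 2)

include hψ in
lemma pow_congr : ∀ (j : ℕ) {a : O}, a ∈ maximalIdeal O ^ j →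
    ψ a ∈ maximalIdeal O ^ j ∧ (0 < j → ψ a - n ^ j * a ∈ maximalIdeal O ^ (j + 1))
  | 0, a, _ => ⟨by simp, fun h => absurd h (lt_irrefl 0)⟩
  | j + 1, a, ha => by
    have one : ∀ b ∈ maximalIdeal O, ψ b ∈ maximalIdeal O := fun b hb => by
      have := Ideal.pow_le_self (by norm_num : (2 : ℕ) ≠ 0) (hψ b hb)
      simpa using add_mem this (Ideal.mul_mem_left _ n hb)
    rcases Nat.eq_zero_or_pos j with rfl | hj
    · rw [zero_add, pow_one] at ha
      exact ⟨by simpa using one a ha, fun _ => by simpa using hψ a ha⟩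
    · rw [pow_succ] at ha
      suffices ψ a ∈ maximalIdeal O ^ (j + 1) ∧
          ψ a - n ^ (j + 1) * a ∈ maximalIdeal O ^ (j + 1 + 1) from ⟨this.1, fun _ => this.2⟩
      induction ha using Submodule.mul_induction_on' with
      | mem_mul_mem b hb c hc =>
        obtain ⟨h1, h2⟩ := pow_congr j hb
        refine ⟨?_, ?_⟩
        · rw [map_mul, pow_succ]
          exact Ideal.mul_mem_mul h1 (one c hc)
        · have e : ψ (b * c) - n ^ (j + 1) * (b * c) =
              (ψ b - n ^ j * b) * ψ c + n ^ j * b * (ψ c - n * c) := by rw [map_mul]; ring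
          rw [e]
          refine add_mem ?_ ?_
          · rw [pow_succ _ (j + 1)]
            exact Ideal.mul_mem_mul (h2 hj) (one c hc)
          · rw [show j + 1 + 1 = j + 2 from rfl, pow_add]
            exact Ideal.mul_mem_mul (Ideal.mul_mem_left _ _ hb) (hψ c hc)
      | add b _ c _ hb hc =>
        rw [map_add]
        refine ⟨add_mem hb.1 hc.1, ?_⟩
        have e : ψ b + ψ c - n ^ (j + 1) * (b + c) =
            (ψ b - n ^ (j + 1) * b) + (ψ c - n ^ (j + 1) * c) := by ring
        rw [e]
        exact add_mem hb.2 hc.2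

include hn hψ in
/-- An endomorphism of a noetherian local ring which is the multiplication by a unit on the
cotangent space and is surjective on the residue field is flat and formally unramified. -/
theorem flat_and_formallyUnramified_endo (hres : ∀ a, ∃ b, a - ψ b ∈ maximalIdeal O) :
    ψ.Flat ∧ (maximalIdeal O).map ψ = maximalIdeal O := by
  have hsurj : ∀ (k : ℕ) (s : O), ∃ r, s - ψ r ∈ maximalIdeal O ^ k := by
    intro k s
    induction k with
    | zero => exact ⟨0, by simp⟩
    | succ k ih =>
      rcases Nat.eq_zero_or_pos k with rfl | hk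
      · simpa using hres s
      · obtain ⟨r, hr⟩ := ih
        obtain ⟨v, hv⟩ := (hn.pow k).exists_left_inv
        refine ⟨r + v * (s - ψ r), ?_⟩
        have h := (pow_congr ψ hψ k (Ideal.mul_mem_left _ v hr)).2 hk
        have e : s - ψ (r + v * (s - ψ r)) =
            -(ψ (v * (s - ψ r)) - n ^ k * (v * (s - ψ r))) + (1 - v * n ^ k) * (s - ψ r) := by
          rw [map_add]; ring
        rw [e, hv, sub_self, zero_mul, add_zero]
        exact neg_mem h
  have hmax : ∀ a, ψ a ∈ maximalIdeal O → a ∈ maximalIdeal O := fun a ha => by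
    by_contra h
    exact (IsLocalRing.mem_maximalIdeal _).1 ha
      ((not_not.1 fun hu => h ((IsLocalRing.mem_maximalIdeal _).2 hu)).map ψ)
  have hinj : ∀ (k : ℕ) (r : O), ψ r ∈ maximalIdeal O ^ k → r ∈ maximalIdeal O ^ k := by
    intro k
    induction k with
    | zero => simp
    | succ k ih =>
      intro r hr
      rcases Nat.eq_zero_or_pos k with rfl | hk
      · simpa using hmax r (by simpa using hr)
      · have h1 := ih r (Ideal.pow_le_pow_right (Nat.le_succ k) hr)
        have h2 := (pow_congr ψ hψ k h1).2 hk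
        obtain ⟨v, hv⟩ := (hn.pow k).exists_left_inv
        have h3 : n ^ k * r ∈ maximalIdeal O ^ (k + 1) := by simpa using sub_mem hr h2
        simpa [← mul_assoc, hv] using Ideal.mul_mem_left _ v h3
  refine ⟨?_, le_antisymm ?_ ?_⟩
  · let := ψ.toAlgebra
    exact flat_of_bijective_mod_pow (R := O) (S := O) (fun k r hr => (pow_congr ψ hψ k hr).1)
      hsurj hinj
  · rw [Ideal.map_le_iff_le_comap]
    exact fun a ha => by simpa using (pow_congr ψ hψ 1 (a := a) (by simpa using ha)).1
  · refine Submodule.le_of_le_smul_of_le_jacobson_bot (IsNoetherian.noetherian _)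
      (maximalIdeal_le_jacobson _) fun a ha => ?_
    obtain ⟨v, hv⟩ := hn.exists_left_inv
    have h := hψ _ (Ideal.mul_mem_left _ v ha)
    rw [show n * (v * a) = a by rw [← mul_assoc, mul_comm n, hv, one_mul]] at h
    refine Submodule.mem_sup.2 ⟨ψ (v * a), Ideal.mem_map_of_mem ψ (Ideal.mul_mem_left _ v ha),
      -(ψ (v * a) - a), ?_, by ring⟩
    rw [smul_eq_mul, ← pow_two]
    exact neg_mem h

end Endo

end Groth.Agent.FieldPow
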